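import Mathlib.CategoryTheory.Sites.PrecoverageToGrothendieck
import Mathlib.CategoryTheory.Sites.Precoverage
import Mathlib.CategoryTheory.Sites.IsSheafFor

/-!
# Topology generated by two precoverages, one living on a subclass of objects
-/

set_option autoImplicit false

open CategoryTheory

namespace GrothLib.TwoPrecov

universe v u w

variable {C : Type u} [Category.{v} C]

/-- hypotheses -/
structure Data (C' : C → Prop) (P P' : Precoverage C) : Prop where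
  memC : ∀ ⦃X : C⦄ ⦃R : Presieve X⦄, R ∈ P' X → C' X ∧ ∀ ⦃Y : C⦄ ⦃f : Y ⟶ X⦄, R f → C' Y
  idmem : ∀ ⦃X : C⦄, C' X → Presieve.singleton (𝟙 X) ∈ P' X
  pb : ∀ ⦃X : C⦄ ⦃R : Presieve X⦄, R ∈ P' X → ∀ ⦃T : C⦄ (g : T ⟶ X), C' T →
      ∃ _ : R.HasPullbacks g, Presieve.pullbackArrows g R ∈ P' T
  cov : ∀ X : C, ∃ R ∈ P X, ∀ ⦃Y : C⦄ ⦃f : Y ⟶ X⦄, R f → C' Y
  refine' : ∀ ⦃S : C⦄ ⦃R₁ : Presieve S⦄, R₁ ∈ P' S →
      ∀ (R₂ : ∀ ⦃Y : C⦄ ⦃f : Y ⟶ S⦄, R₁ f → Presieve Y),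
        (∀ ⦃Y : C⦄ ⦃f : Y ⟶ S⦄ (hf : R₁ f), R₂ hf ∈ P Y ∧ ∀ ⦃Z : C⦄ ⦃g : Z ⟶ Y⦄, R₂ hf g → C' Z) →
      ∀ (R₃ : ∀ ⦃Y : C⦄ ⦃f : Y ⟶ S⦄ (hf : R₁ f) ⦃Z : C⦄ ⦃g : Z ⟶ Y⦄, R₂ hf g → Presieve Z),
        (∀ ⦃Y : C⦄ ⦃f : Y ⟶ S⦄ (hf : R₁ f) ⦃Z : C⦄ ⦃g : Z ⟶ Y⦄ (hg : R₂ hf g), R₃ hf hg ∈ P' Z) →
      ∃ T ∈ P' S, ∀ ⦃W : C⦄ ⦃q : W ⟶ S⦄, T q →
        ∃ (Y Z V : C) (f : Y ⟶ S) (hf : R₁ f) (g : Z ⟶ Y) (hg : R₂ hf g) (h : V ⟶ Z) (_ : R₃ hf hg h)
          (r : W ⟶ V), r ≫ h ≫ g ≫ f = q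

variable {C' : C → Prop} {P P' : Precoverage C}

/-- contains a composite covering family -/
def Cov (C' : C → Prop) (P P' : Precoverage C) (X : C) (S : Sieve X) : Prop :=
  ∃ R ∈ P X, (∀ ⦃Y : C⦄ ⦃f : Y ⟶ X⦄, R f → C' Y) ∧
    ∀ ⦃Y : C⦄ ⦃f : Y ⟶ X⦄, R f → ∃ R' ∈ P' Y, R' ≤ (S.pullback f).arrows

theorem pullbackArrows_le {X T : C} {R : Presieve X} (g : T ⟶ X) [R.HasPullbacks g] {S : Sieve X}
    (h : R ≤ S.arrows) : R.pullbackArrows g ≤ (S.pullback g).arrows := by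
  rintro W k ⟨Z, m, hm⟩
  haveI := Presieve.hasPullback g hm
  change S (_ ≫ g)
  rw [← Limits.pullback.condition]
  exact S.downward_closed (h _ _ hm) _

variable (D : Data C' P P')

include D

theorem cov_of_C' {T : C} (hT : C' T) {S : Sieve T} (h : Cov C' P P' T S) : ∃ R ∈ P' T, R ≤ S.arrows := by
  obtain ⟨R, hR, hRC, hR'⟩ := h
  choose R' hR'm hR'le using hR'
  obtain ⟨T₀, hT₀, hle⟩ := D.refine' (D.idmem hT) (fun Y f _ => fun Z (g : Z ⟶ Y) => R (g ≫ f))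
    (by
      rintro Y f ⟨⟩
      simp only [Category.comp_id]
      exact ⟨hR, fun Z g hg => hRC hg⟩)
    (fun Y f hf Z g hg => R' hg)
    (fun Y f hf Z g hg => hR'm hg)
  refine ⟨T₀, hT₀, fun W q hq => ?_⟩
  obtain ⟨Y, Z, V, f, hf, g, hg, k, hk, r, rfl⟩ := hle hq
  exact S.downward_closed (hR'le hg _ _ hk) r

theorem pullback [P.HasPullbacks] [P.IsStableUnderBaseChange] [P.IsStableUnderComposition] {X T : C}
    (g : T ⟶ X) {S : Sieve X} (h : Cov C' P P' X S) : Cov C' P P' T (S.pullback g) := by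
  obtain ⟨R, hR, hRC, hR'⟩ := h
  haveI := P.hasPullbacks_of_mem g hR
  have hp := P.pullbackArrows_mem g hR
  obtain ⟨ι, Y, p, hp'⟩ := (R.pullbackArrows g).exists_eq_ofArrows
  rw [hp'] at hp
  choose R₁ hR₁ hR₁C using fun i => D.cov (Y i)
  choose σ Z k hk using fun i => (R₁ i).exists_eq_ofArrows
  refine ⟨_, Precoverage.comp_mem_coverings p hp k (fun i => hk i ▸ hR₁ i), ?_, ?_⟩
  · rintro W f ⟨⟨i, j⟩⟩
    exact hR₁C i (hk i ▸ Presieve.ofArrows.mk j)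
  · rintro W f ⟨⟨i, j⟩⟩
    have key : ∀ {W' : C} (q : W' ⟶ T), R.pullbackArrows g q → ∀ {W : C} (kk : W ⟶ W'), C' W →
        ∃ R' ∈ P' W, R' ≤ ((S.pullback g).pullback (kk ≫ q)).arrows := by
      rintro W' q ⟨A, m, hm⟩ W kk hWC
      haveI := Presieve.hasPullback g hm
      obtain ⟨R', hR'm, hle⟩ := hR' hm
      obtain ⟨hpb, hmem⟩ := D.pb hR'm (kk ≫ Limits.pullback.fst m g) hWC
      haveI := hpb
      refine ⟨_, hmem, (pullbackArrows_le _ hle).trans fun V u hu => ?_⟩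
      simp only [Sieve.pullback_apply, Category.assoc] at hu ⊢
      simpa [Limits.pullback.condition] using hu
    exact key (p i) (hp' ▸ Presieve.ofArrows.mk i) (k i j) (hR₁C i (hk i ▸ Presieve.ofArrows.mk j))

theorem transitive {X : C} {S R : Sieve X} (hS : Cov C' P P' X S)
    (h : ∀ ⦃Y : C⦄ ⦃f : Y ⟶ X⦄, S f → Cov C' P P' Y (R.pullback f)) : Cov C' P P' X R := by
  obtain ⟨R₀, hR₀, hR₀C, hR'⟩ := hS
  refine ⟨R₀, hR₀, hR₀C, fun Y f hf => ?_⟩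
  obtain ⟨R₁, hR₁, hR₁S⟩ := hR' hf
  choose T hT hTle using fun {Z : C} {u : Z ⟶ Y} (hu : R₁ u) =>
    cov_of_C' D ((D.memC hR₁).2 hu) (h (hR₁S _ _ hu))
  choose R₂ hR₂ hR₂C using fun Z => D.cov Z
  choose hpb hmem using fun {Z : C} {u : Z ⟶ Y} (hu : R₁ u) {W : C} {v : W ⟶ Z} (hv : R₂ Z v) =>
    D.pb (hT hu) v (hR₂C Z hv)
  obtain ⟨T₀, hT₀, hle⟩ := D.refine' hR₁ (fun Z _ _ => R₂ Z) (fun Z _ _ => ⟨hR₂ Z, hR₂C Z⟩)
    (fun Z u hu W v hv => letI := hpb hu hv; (T hu).pullbackArrows v)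
    (fun Z u hu W v hv => hmem hu hv)
  refine ⟨T₀, hT₀, fun V q hq => ?_⟩
  obtain ⟨Z, W, V', u, hu, v, hv, k, hk, r, rfl⟩ := hle hq
  haveI := hpb hu hv
  have h' := pullbackArrows_le v (hTle hu) _ _ hk
  exact (R.pullback f).downward_closed (by simpa using h') r

theorem top (X : C) : Cov C' P P' X ⊤ := by
  obtain ⟨R, hR, hRC⟩ := D.cov X
  exact ⟨R, hR, hRC, fun Y f hf => ⟨_, D.idmem (hRC hf), fun _ _ _ => trivial⟩⟩

variable [P.HasPullbacks] [P.IsStableUnderBaseChange] [P.IsStableUnderComposition]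

theorem mem_iff (X : C) (S : Sieve X) : S ∈ (P ⊔ P').toGrothendieck X ↔ Cov C' P P' X S := by
  constructor
  · intro h
    induction h with
    | of X R hR =>
      rcases hR with hR | hR
      · obtain ⟨ι, Y', p, rfl⟩ := R.exists_eq_ofArrows
        choose R₁ hR₁ hR₁C using fun i => D.cov (Y' i)
        choose σ Z k hk using fun i => (R₁ i).exists_eq_ofArrows
        refine ⟨_, Precoverage.comp_mem_coverings p hR k (fun i => hk i ▸ hR₁ i), ?_, ?_⟩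
        · rintro W f ⟨⟨i, j⟩⟩
          exact hR₁C i (hk i ▸ Presieve.ofArrows.mk j)
        · rintro W f ⟨⟨i, j⟩⟩
          refine ⟨_, D.idmem (hR₁C i (hk i ▸ Presieve.ofArrows.mk j)), fun V u hu => ?_⟩
          exact ⟨Y' i, u ≫ k i j, p i, Presieve.ofArrows.mk i, Category.assoc _ _ _⟩
      · obtain ⟨R₁, hR₁, hR₁C⟩ := D.cov X
        refine ⟨R₁, hR₁, hR₁C, fun Y f hf => ?_⟩
        obtain ⟨hpb, hmem⟩ := D.pb hR f (hR₁C hf)
        haveI := hpb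
        exact ⟨_, hmem, pullbackArrows_le f (Sieve.le_generate R)⟩
    | top X => exact top D X
    | pullback X S _ Y f ih => exact pullback D f ih
    | transitive X S R _ _ ih ih' => exact transitive D ih ih'
  · rintro ⟨R, hR, hRC, hR'⟩
    refine (P ⊔ P').toGrothendieck.transitive (Precoverage.generate_mem_toGrothendieck (Or.inl hR)) S ?_
    rintro Z f ⟨Y, a, b, hb, rfl⟩
    rw [Sieve.pullback_comp]
    refine (P ⊔ P').toGrothendieck.pullback_stable a ?_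
    obtain ⟨R', hR'm, hle⟩ := hR' hb
    exact GrothendieckTopology.superset_covering _ ((Sieve.generate_le_iff R' _).2 hle)
      (Precoverage.generate_mem_toGrothendieck (Or.inr hR'm))

theorem isSheaf_iff (F : Cᵒᵖ ⥤ Type w) :
    Presieve.IsSheaf (P ⊔ P').toGrothendieck F ↔
      (∀ ⦃X : C⦄ ⦃R : Presieve X⦄, R ∈ P X → Presieve.IsSheafFor F R) ∧
      (∀ ⦃X : C⦄ ⦃R : Presieve X⦄, R ∈ P' X → Presieve.IsSheafFor F R) := by
  constructor
  · intro h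
    exact ⟨fun X R hR => h.isSheafFor_of_mem_precoverage (Or.inl hR),
      fun X R hR => h.isSheafFor_of_mem_precoverage (Or.inr hR)⟩
  · rintro ⟨hP, hP'⟩
    have sep : ∀ {X : C} {S : Sieve X}, S ∈ (P ⊔ P').toGrothendieck X → ∀ (a b : F.obj (Opposite.op X)),
        (∀ {Y : C} (f : Y ⟶ X), S f → F.map f.op a = F.map f.op b) → a = b := by
      intro X S hS a b hab
      obtain ⟨R, hR, -, hR'⟩ := (mem_iff D X S).1 hS
      refine (hP hR).isSeparatedFor.ext fun Y f hf => ?_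
      obtain ⟨R', hR'm, hle⟩ := hR' hf
      refine (hP' hR'm).isSeparatedFor.ext fun Z g hg => ?_
      rw [← ConcreteCategory.comp_apply, ← ConcreteCategory.comp_apply, ← F.map_comp, ← op_comp]
      exact hab _ (hle _ _ hg)
    intro X S hS x hx
    obtain ⟨R, hR, hRC, hR'⟩ := (mem_iff D X S).1 hS
    choose R' hR'm hle using hR'
    let y : ∀ {Y : C} {f : Y ⟶ X} (hf : R f), Presieve.FamilyOfElements F (R' hf) :=
      fun {Y f} hf Z g hg => x (g ≫ f) (hle hf _ _ hg)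
    have hy : ∀ {Y : C} {f : Y ⟶ X} (hf : R f), (y hf).Compatible := fun {Y f} hf W₁ W₂ Z g₁ g₂ f₁ f₂ h₁ h₂ e =>
      hx g₁ g₂ (hle hf _ _ h₁) (hle hf _ _ h₂) (by rw [reassoc_of% e])
    let s : Presieve.FamilyOfElements F R := fun Y f hf => (hP' (hR'm hf)).amalgamate (y hf) (hy hf)
    have spec : ∀ {Y : C} {f : Y ⟶ X} (hf : R f) {Z : C} (a : Z ⟶ Y) (ha : S (a ≫ f)),
        F.map a.op (s f hf) = x (a ≫ f) ha := by
      intro Y f hf Z a ha
      refine sep ((P ⊔ P').toGrothendieck.pullback_stable a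
        (Precoverage.generate_mem_toGrothendieck (Or.inr (hR'm hf)))) _ _ fun {W} b hb => ?_
      obtain ⟨V, c, d, hd, e⟩ := hb
      rw [← ConcreteCategory.comp_apply, ← F.map_comp, ← op_comp, ← e, op_comp, F.map_comp,
        ConcreteCategory.comp_apply, Presieve.IsSheafFor.valid_glue (hP' (hR'm hf)) (hy hf) d hd]
      exact hx c b (hle hf _ _ hd) ha (by rw [reassoc_of% e])
    have hs : s.Compatible := by
      intro Y₁ Y₂ Z g₁ g₂ f₁ f₂ h₁ h₂ e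
      refine sep ((P ⊔ P').toGrothendieck.pullback_stable (g₁ ≫ f₁) hS) _ _ fun {W} b hb => ?_
      have hb₁ : S ((b ≫ g₁) ≫ f₁) := by simpa using hb
      have hb₂ : S ((b ≫ g₂) ≫ f₂) := by simpa [e] using hb
      rw [← ConcreteCategory.comp_apply, ← ConcreteCategory.comp_apply, ← F.map_comp, ← F.map_comp,
        ← op_comp, ← op_comp, spec h₁ _ hb₁, spec h₂ _ hb₂]
      congr 1
      simp [e]
    refine ⟨(hP hR).amalgamate s hs, fun Y f hf => ?_, fun t ht => ?_⟩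
    · obtain hR0 := Precoverage.generate_mem_toGrothendieck (J := P ⊔ P') (Or.inl hR : R ∈ (P ⊔ P') X)
      refine sep ((P ⊔ P').toGrothendieck.pullback_stable f hR0) _ _ fun {W} b hb => ?_
      obtain ⟨V, c, d, hd, e⟩ := hb
      have hcd : S (c ≫ d) := e ▸ S.downward_closed hf b
      rw [← ConcreteCategory.comp_apply, ← F.map_comp, ← op_comp, ← e, op_comp, F.map_comp,
        ConcreteCategory.comp_apply, Presieve.IsSheafFor.valid_glue (hP hR) hs d hd, spec hd c hcd]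
      calc x (c ≫ d) hcd = x (b ≫ f) (S.downward_closed hf b) := by congr 1
        _ = F.map b.op (x f hf) := hx.to_sieveCompatible f b hf
    · refine (hP hR).isSeparatedFor.ext fun Y f hf => ?_
      rw [Presieve.IsSheafFor.valid_glue (hP hR) hs f hf]
      refine (hP' (hR'm hf)).isSeparatedFor.ext fun Z g hg => ?_
      rw [spec hf g (hle hf _ _ hg), ← ConcreteCategory.comp_apply, ← F.map_comp, ← op_comp]
      exact ht _ _

end GrothLib.TwoPrecov
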